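import Cfsg.Agent.Lib.Glauberman.Relative
import Cfsg.Agent.Lib.Glauberman.Conj
import Cfsg.Agent.Lib.Coprime23.PSolv
import Cfsg.Agent.Lib.Basics.Cores
import Cfsg.Agent.Lib.FGB.Basic
import Cfsg.Agent.Lib.Basics.Tools

/-!
# A fixed Sylow subgroup under a coprime `p`-group of operators

If a `p`-group acts coprimely on a `q`-solvable group `K`, fixes a Sylow `q`-subgroup `Q` pointwise,
and all invariant irreducible characters have degree prime to `q`, then the fixed points normalise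
`Q`.
-/

set_option autoImplicit false
set_option linter.all false

namespace Cfsg.Agent.Blocks.CommutingSylows

open Cfsg.Agent Cfsg.Agent.Glauberman
open scoped Pointwise

universe u v

section Counting

variable {K : Type u} [Group K] [Finite K] {A : Type v} [Group A] {α : A →* MulAut K} {p : ℕ}
  [Fact p.Prime]

theorem exists_fixed_mem (hA : IsPGroup p A) (Z : Set K) (hZ : ∀ a, ∀ z ∈ Z, α a z ∈ Z)
    (hc : ¬ p ∣ Nat.card Z) : ∃ z ∈ Z, ∀ a, α a z = z := by
  letI : MulAction A Z :=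
    { smul := fun a z => ⟨α a z.1, hZ a z.1 z.2⟩
      one_smul := fun z => Subtype.ext (by show α 1 z.1 = z.1; simp)
      mul_smul := fun a b z => Subtype.ext (by show α (a * b) z.1 = α a (α b z.1); simp) }
  obtain ⟨z, hz⟩ := hA.nonempty_fixed_point_of_prime_not_dvd_card Z hc
  exact ⟨z.1, z.2, fun a => congrArg Subtype.val (hz a)⟩

/-- A fixed coset of a stable normal subgroup contains a fixed point. -/
theorem exists_fixed_coset (hA : IsPGroup p A) (hp : ¬ p ∣ Nat.card K) (M : Subgroup K) [M.Normal]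
    (c : K) (hM : ∀ a, ∀ m ∈ M, α a m ∈ M) (hc : ∀ a, c⁻¹ * α a c ∈ M) :
    ∃ z : K, (∀ a, α a z = z) ∧ c⁻¹ * z ∈ M := by
  obtain ⟨z, hz, hfix⟩ := exists_fixed_mem (α := α) hA {z : K | c⁻¹ * z ∈ M}
    (fun a z hz => by
      show c⁻¹ * α a z ∈ M
      have : c⁻¹ * α a z = (c⁻¹ * α a c) * α a (c⁻¹ * z) := by
        rw [map_mul, map_inv]; group
      rw [this]
      exact mul_mem (hc a) (hM a _ hz))
    (by
      have e : {z : K | c⁻¹ * z ∈ M} ≃ M :=
        { toFun := fun z => ⟨c⁻¹ * z.1, z.2⟩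
          invFun := fun m => ⟨c * m.1, by show c⁻¹ * (c * m.1) ∈ M; simp⟩
          left_inv := fun z => Subtype.ext (by simp)
          right_inv := fun m => Subtype.ext (by simp) }
      rw [Nat.card_congr e]
      exact fun h => hp (h.trans (Subgroup.card_subgroup_dvd_card M)))
  exact ⟨z, hfix, hz⟩

/-- An invariant subgroup of index prime to `q` contains a fixed-point conjugate of `Q`. -/
theorem exists_fixed_conj_le (hA : IsPGroup p A) (hp : ¬ p ∣ Nat.card K) {q : ℕ} [Fact q.Prime]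
    (Q : Sylow q K) (hQ : ∀ a, ∀ y ∈ (Q : Subgroup K), α a y = y) (I : Subgroup K)
    (hI : ∀ a, ∀ x ∈ I, α a x ∈ I) (hidx : ¬ q ∣ I.index) :
    ∃ c : K, (∀ a, α a c = c) ∧ ∀ y ∈ (Q : Subgroup K), c * y * c⁻¹ ∈ I := by
  classical
  let β : A →* MulAut I := resN α I hI
  letI : MulAction A (Sylow q I) := MulAction.compHom _ β
  have hcard : ¬ p ∣ Nat.card (Sylow q I) := fun h =>
    hp (h.trans (((default : Sylow q I).card_dvd_index.trans (Subgroup.index_dvd_card _)).trans
      (Subgroup.card_subgroup_dvd_card I)))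
  obtain ⟨R, hR⟩ := hA.nonempty_fixed_point_of_prime_not_dvd_card (Sylow q I) hcard
  set R' : Subgroup K := (R : Subgroup I).map I.subtype with hR'
  have hR'inv : ∀ a, ∀ x ∈ R', α a x ∈ R' := by
    rintro a _ ⟨x, hx, rfl⟩
    refine ⟨β a x, ?_, rfl⟩
    have h1 := congrArg (fun S : Sylow q I => (S : Subgroup I)) (hR a)
    have h2 : β a x ∈ ((a • R : Sylow q I) : Subgroup I) :=
      Subgroup.smul_mem_pointwise_smul x (β a) _ hx
    rwa [show ((a • R : Sylow q I) : Subgroup I) = (R : Subgroup I) from h1] at h2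
  have hR'idx : ¬ q ∣ R'.index := by
    rw [hR', Subgroup.index_map_subtype]
    exact fun h => ((Fact.out : q.Prime).dvd_mul.mp h).elim R.not_dvd_index hidx
  set Rs : Sylow q K := (R.2.map I.subtype).toSylow hR'idx with hRs
  obtain ⟨k₀, hk₀⟩ := MulAction.exists_smul_eq K Q Rs
  have hmem : ∀ y : K, y ∈ R' ↔ k₀⁻¹ * y * k₀ ∈ (Q : Subgroup K) := fun y => by
    have h : ((k₀ • Q : Sylow q K) : Subgroup K) = R' := by rw [hk₀]; rfl
    rw [← h, Sylow.coe_subgroup_smul, Subgroup.mem_pointwise_smul_iff_inv_smul_mem]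
    simp [MulAut.smul_def]
  let Z : Set K := {k | ∀ y ∈ (Q : Subgroup K), k * y * k⁻¹ ∈ R'}
  have hZ : ∀ a, ∀ k ∈ Z, α a k ∈ Z := fun a k hk y hy => by
    have := hR'inv a _ (hk y hy)
    rwa [map_mul, map_mul, map_inv, hQ a y hy] at this
  have hZc : ¬ p ∣ Nat.card Z := by
    have e : Z ≃ Subgroup.normalizer ((Q : Subgroup K) : Set K) :=
      { toFun := fun k => ⟨k₀⁻¹ * k.1, by
          refine Subgroup.mem_normalizer_fintype fun y hy => ?_
          have h1 := (hmem _).mp (k.2 y hy)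
          rw [SetLike.mem_coe]
          convert h1 using 1
          group⟩
        invFun := fun n => ⟨k₀ * n.1, fun y hy => by
          rw [hmem]
          have := (Subgroup.mem_normalizer_iff.mp n.2 y).mp hy
          convert this using 1
          group⟩
        left_inv := fun k => Subtype.ext (by simp)
        right_inv := fun n => Subtype.ext (by simp) }
    rw [Nat.card_congr e]
    exact fun h => hp (h.trans (Subgroup.card_subgroup_dvd_card _))
  obtain ⟨c, hc, hfix⟩ := exists_fixed_mem (α := α) hA Z hZ hZc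
  exact ⟨c, hfix, fun y hy => Subgroup.map_subtype_le _ (hc y hy)⟩

end Counting

theorem eq_one_of_two_primes {G : Type u} [Group G] {q : ℕ} {H : Subgroup G} (hH : IsPGroup q H)
    {M : Subgroup G} [Finite M] (hM : (Nat.card M).Coprime q) {x : G} (hx : x ∈ H) (hxM : x ∈ M) :
    x = 1 := by
  obtain ⟨k, hk⟩ := hH ⟨x, hx⟩
  have h1 : orderOf x ∣ q ^ k := orderOf_dvd_of_pow_eq_one (congrArg Subtype.val hk)
  have h2 : orderOf x ∣ Nat.card M := by
    have := orderOf_dvd_natCard (⟨x, hxM⟩ : M)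
    rwa [Subgroup.orderOf_mk] at this
  exact orderOf_eq_one_iff.mp (Nat.eq_one_of_dvd_coprimes (hM.pow_right k) h2 h1)

/-- Elements with equal irreducible character values are conjugate. -/
theorem isConj_of_forall_irr {G : Type u} [Group G] [Fintype G] {g h : G}
    (hgh : ∀ χ : Cfsg.IrrCharacter G, (χ : G → ℂ) g = (χ : G → ℂ) h) : IsConj g h := by
  classical
  by_contra hne
  have h1 := CT.column_orthogonality g h
  have h2 := CT.column_orthogonality h h
  rw [if_neg hne] at h1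
  rw [if_pos (IsConj.refl h)] at h2
  have h3 : ∑ χ : Cfsg.IrrCharacter G, (χ : G → ℂ) g * starRingEnd ℂ ((χ : G → ℂ) h) =
      ∑ χ : Cfsg.IrrCharacter G, (χ : G → ℂ) h * starRingEnd ℂ ((χ : G → ℂ) h) :=
    Finset.sum_congr rfl fun χ _ => by rw [hgh χ]
  rw [h1, h2] at h3
  exact Nat.cast_ne_zero.mpr Nat.card_pos.ne' h3.symm

section Step

variable {K : Type u} [Group K] [Fintype K] {A : Type v} [Group A] [Finite A] {α : A →* MulAut K}
  {p q : ℕ} [Fact p.Prime] [Fact q.Prime]

/-- Over a `q'`-subgroup `M`: `Q` centralises the fixed points in `M`. -/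
theorem commute_fixed (hA : IsPGroup p A) (hp : ¬ p ∣ Nat.card K) (Q : Sylow q K)
    (hQ : ∀ a, ∀ y ∈ (Q : Subgroup K), α a y = y) (M : Subgroup K) [M.Normal]
    (hM : ∀ a, ∀ m ∈ M, α a m ∈ M) (hMq : (Nat.card M).Coprime q)
    (hdeg : ∀ θ : Cfsg.IrrCharacter K, Inv α (θ : K → ℂ) → ¬ q ∣ CT.deg (θ : K → ℂ))
    (hnor : ∀ c : K, (∀ a, α a c = c) → ∀ y ∈ (Q : Subgroup K),
      ∃ y' ∈ (Q : Subgroup K), ∃ m ∈ M, c * y * c⁻¹ = y' * m) :
    ∀ y ∈ (Q : Subgroup K), ∀ m ∈ M, (∀ a, α a m = m) → y * m = m * y := by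
  classical
  let μ : A →* MulAut M := resN α M hM
  let C : Subgroup M := fixedPts μ
  letI : Fintype M := Fintype.ofFinite M
  letI : Fintype C := Fintype.ofFinite C
  have hpM : ¬ p ∣ Nat.card M := fun h => hp (h.trans (Subgroup.card_subgroup_dvd_card M))
  obtain ⟨Φ, hΦ⟩ := corr (ι := C.subtype) hA hpM C.subtype_injective (range_fixedPts μ)
  -- the elements that fix a given character of the fixed points
  let Fix : Cfsg.IrrCharacter C → Subgroup K := fun δ =>
    { carrier := {k | (∀ a, α a k = k) ∧ ∀ x x' : C, (x'.1.1 : K) = k * x.1.1 * k⁻¹ →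
        (δ : C → ℂ) x' = (δ : C → ℂ) x}
      one_mem' := ⟨fun a => map_one _, fun x x' h => by
        rw [show x' = x from Subtype.ext (Subtype.ext (by simpa using h))]⟩
      mul_mem' := fun {k l} hk hl => ⟨fun a => by rw [map_mul, hk.1 a, hl.1 a], fun x x' h => by
        have hmem : l * x.1.1 * l⁻¹ ∈ M := ‹M.Normal›.conj_mem _ x.1.2 l
        let w : C := ⟨⟨l * x.1.1 * l⁻¹, hmem⟩, fun a => Subtype.ext (by
          show α a (l * x.1.1 * l⁻¹) = _
          rw [map_mul, map_mul, map_inv, hl.1 a]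
          exact congrArg (fun t => l * t * l⁻¹) (congrArg Subtype.val (x.2 a)))⟩
        rw [hk.2 w x' (by rw [h]; show _ = k * (l * x.1.1 * l⁻¹) * k⁻¹; group), hl.2 x w rfl]⟩
      inv_mem' := fun {k} hk => ⟨fun a => by rw [map_inv, hk.1 a], fun x x' h =>
        (hk.2 x' x (by rw [h]; group)).symm⟩ }
  have hinner : ∀ δ, ∀ x : C, (x.1.1 : K) ∈ Fix δ := fun δ x =>
    ⟨fun a => congrArg Subtype.val (x.2 a), fun z z' h => by
      rw [show z' = x * z * x⁻¹ from Subtype.ext (Subtype.ext (by simpa using h))]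
      exact CT.isClassFunction_of_isIrr δ.2 z x⟩
  have hQfix : ∀ δ, (Q : Subgroup K) ≤ Fix δ := by
    intro δ
    obtain ⟨φ, rfl⟩ := Φ.surjective δ
    obtain ⟨θ, hθinv, hθφ⟩ := exists_inv_over α (by
        haveI := hA.isNilpotent
        infer_instance) (by
        obtain ⟨n, hn⟩ := hA.exists_card_eq
        rw [hn]
        exact ((Fact.out : p.Prime).coprime_iff_not_dvd.mpr hp).pow_left n) M hM φ.1 φ.2
    have hidx : ¬ q ∣ (CT.inertia M (φ.1 : M → ℂ)).index := fun h =>
      hdeg θ hθinv (by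
        rw [CT.clifford_mult M θ.2 φ.1.2 hθφ]
        exact dvd_mul_of_dvd_left (dvd_mul_of_dvd_right h _) _)
    have hIinv : ∀ a, ∀ x ∈ CT.inertia M (φ.1 : M → ℂ), α a x ∈ CT.inertia M (φ.1 : M → ℂ) := by
      intro a x hx
      rw [CT.mem_inertia_iff] at hx ⊢
      intro n
      have h1 := hx (μ a⁻¹ n)
      have h2 : ∀ m : M, (φ.1 : M → ℂ) (μ a m) = (φ.1 : M → ℂ) m := fun m => φ.2 a m
      rw [← h2, ← h2 (μ a⁻¹ n)] at h1
      convert h1 using 2
      · apply Subtype.ext
        show α a x * n.1 * (α a x)⁻¹ = α a (x * (α a⁻¹ n.1) * x⁻¹)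
        simp [map_mul, map_inv]
      · simp
    obtain ⟨c, hcfix, hcI⟩ := exists_fixed_conj_le hA hp Q hQ _ hIinv hidx
    -- fixed elements of the inertia group fix the correspondent
    have hI : ∀ k : K, (∀ a, α a k = k) → k ∈ CT.inertia M (φ.1 : M → ℂ) → k ∈ Fix (Φ φ) := by
      intro k hk hkI
      let e : C ≃* C :=
        { toFun := fun x => ⟨⟨k * x.1.1 * k⁻¹, ‹M.Normal›.conj_mem _ x.1.2 k⟩, fun a => Subtype.ext (by
            show α a (k * x.1.1 * k⁻¹) = _
            rw [map_mul, map_mul, map_inv, hk a]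
            exact congrArg (fun t => k * t * k⁻¹) (congrArg Subtype.val (x.2 a)))⟩
          invFun := fun x => ⟨⟨k⁻¹ * x.1.1 * k, by
            simpa using ‹M.Normal›.conj_mem _ x.1.2 k⁻¹⟩, fun a => Subtype.ext (by
            show α a (k⁻¹ * x.1.1 * k) = _
            rw [map_mul, map_mul, map_inv, hk a]
            exact congrArg (fun t => k⁻¹ * t * k) (congrArg Subtype.val (x.2 a)))⟩
          left_inv := fun x => Subtype.ext (Subtype.ext (by show k⁻¹ * (k * x.1.1 * k⁻¹) * k = x.1.1; group))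
          right_inv := fun x => Subtype.ext (Subtype.ext (by show k * (k⁻¹ * x.1.1 * k) * k⁻¹ = x.1.1; group))
          map_mul' := fun x y => Subtype.ext (Subtype.ext (by
            show k * (x.1.1 * y.1.1) * k⁻¹ = k * x.1.1 * k⁻¹ * (k * y.1.1 * k⁻¹); group)) }
      let β' := compIrr e (Φ φ)
      obtain ⟨m, hm⟩ := CT.classInner_character_nat
        (CT.isCharacter_restrict C (CT.isCharacter_of_isIrr φ.1.2)) (CT.isCharacter_of_isIrr (Φ φ).2)
      have hpm : ¬ p ∣ m := (hΦ φ (Φ φ) m hm).1.mpr rfl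
      have hsame : Cfsg.classInner (fun x : C => (φ.1 : M → ℂ) (C.subtype x)) (β' : C → ℂ) = (m : ℂ) := by
        refine Eq.trans ?_ hm
        have hφe : (fun x : C => (φ.1 : M → ℂ) (C.subtype (e x))) =
            (fun x : C => (φ.1 : M → ℂ) (C.subtype x)) := funext fun x =>
          (CT.mem_inertia_iff M).mp hkI x.1
        conv_lhs => rw [← hφe]
        exact classInner_comp_equiv e (fun x : C => (φ.1 : M → ℂ) (C.subtype x)) _
      have hβ : β' = Φ φ := (hΦ φ β' m hsame).1.mp hpm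
      refine ⟨hk, fun x x' h => ?_⟩
      rw [show x' = e x from Subtype.ext (Subtype.ext h)]
      exact congrFun (congrArg Subtype.val hβ) x
    -- move from the conjugate of `Q` to `Q` itself
    let f : ↥(Q : Subgroup K) → ↥(Q : Subgroup K) := fun y =>
      ⟨_, (hnor c hcfix y.1 y.2).choose_spec.1⟩
    have hf : ∀ y : ↥(Q : Subgroup K), ∃ m ∈ M, c * y.1 * c⁻¹ = (f y).1 * m := fun y =>
      (hnor c hcfix y.1 y.2).choose_spec.2
    have hinj : Function.Injective f := fun y z h => by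
      obtain ⟨m, hm, hym⟩ := hf y
      obtain ⟨m', hm', hzm⟩ := hf z
      rw [h] at hym
      have h1 : c * (z.1⁻¹ * y.1) * c⁻¹ = m'⁻¹ * m := by
        rw [show c * (z.1⁻¹ * y.1) * c⁻¹ = (c * z.1 * c⁻¹)⁻¹ * (c * y.1 * c⁻¹) by group, hym, hzm]
        group
      have h2 : z.1⁻¹ * y.1 ∈ M := by
        have := ‹M.Normal›.conj_mem _ (mul_mem (inv_mem hm') hm) c⁻¹
        rw [← h1] at this
        convert this using 1
        group
      exact Subtype.ext (inv_mul_eq_one.mp
        (eq_one_of_two_primes Q.2 hMq (mul_mem (inv_mem z.2) y.2) h2)).symm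
    intro y hy
    obtain ⟨z, hz⟩ := (Finite.injective_iff_surjective.mp hinj) ⟨y, hy⟩
    obtain ⟨m, hm, hzm⟩ := hf z
    rw [hz] at hzm
    change c * z.1 * c⁻¹ = y * m at hzm
    have hfixc : ∀ a, α a (c * z.1 * c⁻¹) = c * z.1 * c⁻¹ := fun a => by
      rw [map_mul, map_mul, map_inv, hcfix a, hQ a z.1 z.2]
    have hmfix : ∀ a, α a m = m := fun a => by
      have := hfixc a
      rw [hzm, map_mul, hQ a y hy] at this
      exact mul_left_cancel this
    have h1 : c * z.1 * c⁻¹ ∈ Fix (Φ φ) := hI _ hfixc (hcI z.1 z.2)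
    have h2 := hinner (Φ φ) ⟨⟨m, hm⟩, fun a => Subtype.ext (hmfix a)⟩
    have h3 := mul_mem h1 (inv_mem h2)
    have e : c * z.1 * c⁻¹ * m⁻¹ = y := by rw [hzm]; group
    rwa [e] at h3
  -- each class of the fixed points meets the centralizer of `y`
  intro y hy
  let e : C →* MulAut C := MulAut.conj
  let γ : Subgroup.zpowers y →* MulAut C :=
    { toFun := fun k =>
        { toFun := fun x => ⟨⟨k.1 * x.1.1 * k.1⁻¹, ‹M.Normal›.conj_mem _ x.1.2 k.1⟩, fun a => Subtype.ext (by
            show α a (k.1 * x.1.1 * k.1⁻¹) = _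
            rw [map_mul, map_mul, map_inv, hQ a k.1 ((Subgroup.zpowers_le.mpr hy) k.2)]
            exact congrArg (fun t => k.1 * t * k.1⁻¹) (congrArg Subtype.val (x.2 a)))⟩
          invFun := fun x => ⟨⟨k.1⁻¹ * x.1.1 * k.1, by
            simpa using ‹M.Normal›.conj_mem _ x.1.2 k.1⁻¹⟩, fun a => Subtype.ext (by
            show α a (k.1⁻¹ * x.1.1 * k.1) = _
            rw [map_mul, map_mul, map_inv, hQ a k.1 ((Subgroup.zpowers_le.mpr hy) k.2)]
            exact congrArg (fun t => k.1⁻¹ * t * k.1) (congrArg Subtype.val (x.2 a)))⟩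
          left_inv := fun x => Subtype.ext (Subtype.ext (by
            show k.1⁻¹ * (k.1 * x.1.1 * k.1⁻¹) * k.1 = x.1.1; group))
          right_inv := fun x => Subtype.ext (Subtype.ext (by
            show k.1 * (k.1⁻¹ * x.1.1 * k.1) * k.1⁻¹ = x.1.1; group))
          map_mul' := fun x z => Subtype.ext (Subtype.ext (by
            show k.1 * (x.1.1 * z.1.1) * k.1⁻¹ = k.1 * x.1.1 * k.1⁻¹ * (k.1 * z.1.1 * k.1⁻¹); group)) }
      map_one' := MulEquiv.ext fun x => Subtype.ext (Subtype.ext (by simp))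
      map_mul' := fun k l => MulEquiv.ext fun x => Subtype.ext (Subtype.ext (by simp [mul_assoc])) }
  have hsolv : Group.IsSolvable (Subgroup.zpowers y) := by
    haveI := (Q.2.to_le (Subgroup.zpowers_le.mpr hy)).isNilpotent
    infer_instance
  have hcop : (Nat.card (Subgroup.zpowers y)).Coprime (Nat.card C) := by
    obtain ⟨n, hn⟩ := (Q.2.to_le (Subgroup.zpowers_le.mpr hy)).exists_card_eq
    rw [hn]
    exact ((hMq.coprime_dvd_left (Subgroup.card_subgroup_dvd_card C)).pow_right n).symm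
  have hcls : ∀ (k : Subgroup.zpowers y) (x : C), IsConj (γ k x) x := fun k x =>
    isConj_of_forall_irr fun δ =>
      (hQfix δ ((Subgroup.zpowers_le.mpr hy) k.2)).2 x (γ k x) rfl
  have htop : fixedPts γ = ⊤ := FGB.eq_top_of_conj_cover fun x => by
    obtain ⟨c, hc, hxc⟩ := exists_fixed_of_class γ hsolv hcop x fun k => hcls k x
    obtain ⟨t, ht⟩ := isConj_iff.mp hxc
    exact ⟨t, by rw [ht]; exact hc⟩
  intro m hm hmfix
  have h := (htop ▸ Subgroup.mem_top (⟨⟨m, hm⟩, fun a => Subtype.ext (hmfix a)⟩ : C) :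
    (⟨⟨m, hm⟩, fun a => Subtype.ext (hmfix a)⟩ : C) ∈ fixedPts γ) ⟨y, Subgroup.mem_zpowers y⟩
  have h' : y * m * y⁻¹ = m := congrArg (fun x : C => x.1.1) h
  exact mul_inv_eq_iff_eq_mul.mp h'

end Step

theorem fixed_normalize_aux (p q : ℕ) [Fact p.Prime] [Fact q.Prime] : ∀ (n : ℕ) (K : Type u)
    [Group K] [Fintype K] (A : Type v) [Group A] [Finite A] (α : A →* MulAut K) (Q : Sylow q K),
    Nat.card K = n → Cfsg.IsPSolvable q K → IsPGroup p A → ¬ p ∣ Nat.card K →
    (∀ a, ∀ y ∈ (Q : Subgroup K), α a y = y) →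
    (∀ θ : Cfsg.IrrCharacter K, Inv α (θ : K → ℂ) → ¬ q ∣ CT.deg (θ : K → ℂ)) →
    ∀ c : K, (∀ a, α a c = c) → ∀ y ∈ (Q : Subgroup K), c * y * c⁻¹ ∈ (Q : Subgroup K) := by
  intro n
  induction n using Nat.strong_induction_on with
  | _ n ih =>
  intro K _ _ A _ _ α Q hn hs hA hp hQ hdeg
  classical
  rcases subsingleton_or_nontrivial K with hK | hK
  · intro c _ y hy
    rwa [Subsingleton.elim (c * y * c⁻¹) y]
  have key : ∀ M : Subgroup K, M.Normal → M ≠ ⊥ → M.Characteristic →
      (IsPGroup q M ∨ (Nat.card M).Coprime q) →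
      ∀ c : K, (∀ a, α a c = c) → ∀ y ∈ (Q : Subgroup K), c * y * c⁻¹ ∈ (Q : Subgroup K) := by
    intro M hMn hM1 hMc hMq
    haveI := hMn
    have hM : ∀ a, ∀ m ∈ M, α a m ∈ M := fun a m hm =>
      (Subgroup.characteristic_iff_map_le.mp hMc) (α a) ⟨m, hm, rfl⟩
    let αq : A →* MulAut (K ⧸ M) :=
      { toFun := fun a =>
          { toFun := QuotientGroup.map M M (α a).toMonoidHom fun m hm => hM a m hm
            invFun := QuotientGroup.map M M (α a⁻¹).toMonoidHom fun m hm => hM a⁻¹ m hm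
            left_inv := fun x => QuotientGroup.induction_on x fun k => by simp
            right_inv := fun x => QuotientGroup.induction_on x fun k => by simp
            map_mul' := map_mul _ }
        map_one' := MulEquiv.ext fun x => QuotientGroup.induction_on x fun k => by simp
        map_mul' := fun a b => MulEquiv.ext fun x => QuotientGroup.induction_on x fun k => by simp }
    have hlt : Nat.card (K ⧸ M) < n := by
      rw [← hn]
      exact Basics.card_quotient_lt hM1
    letI : Fintype (K ⧸ M) := Fintype.ofFinite _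
    set Qb : Sylow q (K ⧸ M) := Q.mapSurjective (QuotientGroup.mk'_surjective M)
    have hIH := ih _ hlt (K ⧸ M) A αq Qb rfl
      (Coprime23.isPSolvable_map (QuotientGroup.mk' M) (QuotientGroup.mk'_surjective M) hs) hA
      (fun h => hp (h.trans (Subgroup.card_quotient_dvd_card M)))
      (by
        rintro a _ ⟨y, hy, rfl⟩
        show ((α a y : K) : K ⧸ M) = _
        rw [hQ a y hy]; rfl)
      (fun θ hθ => hdeg ⟨fun k => (θ : K ⧸ M → ℂ) (QuotientGroup.mk' M k),
          CT.isIrrCharacter_comp (QuotientGroup.mk' M) (QuotientGroup.mk'_surjective M) θ.2⟩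
        (fun a k => hθ a (k : K ⧸ M)))
    have hnor : ∀ c : K, (∀ a, α a c = c) → ∀ y ∈ (Q : Subgroup K),
        ∃ y' ∈ (Q : Subgroup K), ∃ m ∈ M, c * y * c⁻¹ = y' * m := by
      intro c hc y hy
      obtain ⟨y', hy', he⟩ := hIH (c : K ⧸ M)
        (fun a => by show ((α a c : K) : K ⧸ M) = _; rw [hc a]) _ ⟨y, hy, rfl⟩
      exact ⟨y', hy', y'⁻¹ * (c * y * c⁻¹), QuotientGroup.eq.mp he, by group⟩
    intro c hc y hy
    obtain ⟨y', hy', m, hm, he⟩ := hnor c hc y hy
    rcases hMq with hMq | hMq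
    · rw [he]
      exact mul_mem hy' (hMq.le_sylow_of_normal Q hm)
    · have hmfix : ∀ a, α a m = m := fun a => by
        have h1 : α a (c * y * c⁻¹) = c * y * c⁻¹ := by
          rw [map_mul, map_mul, map_inv, hc a, hQ a y hy]
        rw [he, map_mul, hQ a y' hy'] at h1
        exact mul_left_cancel h1
      have hcm : Commute y' m := commute_fixed hA hp Q hQ M hM hMq hdeg hnor y' hy' m hm hmfix
      obtain ⟨k, hk⟩ := Q.2 ⟨y, hy⟩
      obtain ⟨k', hk'⟩ := Q.2 ⟨y', hy'⟩
      have h1 : (c * y * c⁻¹) ^ q ^ (k + k') = 1 := by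
        rw [conj_pow, pow_add, pow_mul, show y ^ q ^ k = 1 from congrArg Subtype.val hk, one_pow]
        group
      have h2 : y' ^ q ^ (k + k') = 1 := by
        rw [add_comm, pow_add, pow_mul, show y' ^ q ^ k' = 1 from congrArg Subtype.val hk', one_pow]
      rw [he, hcm.mul_pow, h2, one_mul] at h1
      have h3 : m = 1 := orderOf_eq_one_iff.mp (Nat.eq_one_of_dvd_coprimes (hMq.pow_right _)
        (by simpa [Subgroup.orderOf_mk] using orderOf_dvd_natCard (⟨m, hm⟩ : M))
        (orderOf_dvd_of_pow_eq_one h1))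
      rw [he, h3, mul_one]
      exact hy'
  rcases Coprime23.exists_core_ne_bot hs with h | h
  · exact key _ inferInstance h inferInstance (Or.inl (Basics.pCore_isPGroup q))
  · exact key _ inferInstance h inferInstance (Or.inr (Basics.pPrimeCore_coprime q))

/-- The fixed points normalise a pointwise fixed Sylow subgroup, if all invariant characters have
degree prime to `q`. -/
theorem fixed_normalize {K : Type u} [Group K] [Fintype K] {A : Type v} [Group A] [Finite A]
    {α : A →* MulAut K} {p q : ℕ} [Fact p.Prime] [Fact q.Prime] (hs : Cfsg.IsPSolvable q K)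
    (hA : IsPGroup p A) (hp : ¬ p ∣ Nat.card K) (Q : Sylow q K)
    (hQ : ∀ a, ∀ y ∈ (Q : Subgroup K), α a y = y)
    (hdeg : ∀ θ : Cfsg.IrrCharacter K, Inv α (θ : K → ℂ) → ¬ q ∣ CT.deg (θ : K → ℂ))
    (c : K) (hc : ∀ a, α a c = c) {y : K} (hy : y ∈ (Q : Subgroup K)) :
    c * y * c⁻¹ ∈ (Q : Subgroup K) :=
  fixed_normalize_aux p q _ K A α Q rfl hs hA hp hQ hdeg c hc y hy

end Cfsg.Agent.Blocks.CommutingSylows
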