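import Cfsg.Agent.Lib.Blocks.CommutingSylows.Fixed
import Cfsg.Agent.Lib.CoprimeExt.CoprimeDegree
import Cfsg.Agent.Lib.Transfer.Constrained
import Cfsg.Agent.Lib.Blocks.InvariantCover
import Cfsg.Agent.Lib.Basics.CoprimeGen
import Cfsg.Agent.Lib.Basics.CoprimeAction

/-!
# Commuting Sylow subgroups from degrees of characters trivial on the cores
-/

set_option autoImplicit false
set_option linter.all false

namespace Cfsg.Agent.Blocks.CommutingSylows

open Cfsg.Agent Cfsg.Agent.Glauberman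
open scoped Pointwise commutatorElement

universe u

variable {G : Type u} [Group G] [Finite G] {p q : ℕ}

/-- Every character of degree prime to `p` trivial on `O_{p'}` has degree prime to `q`. -/
def Hyp (p q : ℕ) (G : Type u) [Group G] : Prop :=
  ∀ χ : Cfsg.IrrCharacter G, (∀ x ∈ Cfsg.pPrimeCore p G, (χ : G → ℂ) x = (χ : G → ℂ) 1) →
    ¬ p ∣ CT.deg (χ : G → ℂ) → ¬ q ∣ CT.deg (χ : G → ℂ)

theorem hyp_quotient (h : Hyp p q G) (N : Subgroup G) [N.Normal] : Hyp p q (G ⧸ N) := by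
  intro χ hχ
  refine h ⟨fun g => (χ : G ⧸ N → ℂ) (QuotientGroup.mk' N g),
    CT.isIrrCharacter_comp (QuotientGroup.mk' N) (QuotientGroup.mk'_surjective N) χ.2⟩ fun x hx => ?_
  have hle : (Cfsg.pPrimeCore p G).map (QuotientGroup.mk' N) ≤ Cfsg.pPrimeCore p (G ⧸ N) := by
    haveI := Subgroup.Normal.map (inferInstance : (Cfsg.pPrimeCore p G).Normal) (QuotientGroup.mk' N)
      (QuotientGroup.mk'_surjective N)
    exact Basics.le_pPrimeCore ((Basics.pPrimeCore_coprime p).coprime_dvd_left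
      (Subgroup.card_map_dvd _ _))
  exact hχ _ (hle ⟨x, hx, rfl⟩)

theorem mem_pPrimeCore_of_commute [Fact p.Prime] [Fact q.Prime] (hpq : p ≠ q)
    (hs : Cfsg.IsPSolvable p G) (P : Sylow p G) {y : G} {k : ℕ} (hy : y ^ q ^ k = 1)
    (hc : ∀ x ∈ (P : Subgroup G), x * y = y * x) : y ∈ Cfsg.pPrimeCore p G := by
  set O := Cfsg.pPrimeCore p G
  have hs' : Cfsg.IsPSolvable p (G ⧸ O) :=
    Coprime23.isPSolvable_map (QuotientGroup.mk' O) (QuotientGroup.mk'_surjective O) hs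
  have hcen := Cfsg.Agent.Transfer.centralizer_pCore_le_of_pSolvable (p := p)
    (Basics.pPrimeCore_quotient_eq_bot p)
    (Blocks.isPSolvable_subgroup hs' (Subgroup.centralizer (Cfsg.pCore p (G ⧸ O) : Set (G ⧸ O))))
  set Pb : Sylow p (G ⧸ O) := P.mapSurjective (QuotientGroup.mk'_surjective O)
  have hmem : (y : G ⧸ O) ∈ Cfsg.pCore p (G ⧸ O) := by
    refine hcen (Subgroup.mem_centralizer_iff.mpr fun z hz => ?_)
    obtain ⟨x, hx, rfl⟩ := (Basics.pCore_le_sylow p Pb hz : z ∈ ((Pb : Subgroup (G ⧸ O))))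
    exact congrArg (QuotientGroup.mk' O) (hc x hx)
  obtain ⟨j, hj⟩ := Basics.pCore_isPGroup p ⟨_, hmem⟩
  have h1 : orderOf (y : G ⧸ O) ∣ p ^ j := orderOf_dvd_of_pow_eq_one (congrArg Subtype.val hj)
  have h2 : orderOf (y : G ⧸ O) ∣ q ^ k := orderOf_dvd_of_pow_eq_one (by
    rw [← QuotientGroup.mk_pow, hy]; rfl)
  have h3 := Nat.eq_one_of_dvd_coprimes
    (Nat.coprime_pow_primes j k (Fact.out : p.Prime) (Fact.out : q.Prime) hpq) h1 h2
  exact (QuotientGroup.eq_one_iff y).mp (orderOf_eq_one_iff.mp h3)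

theorem exists_sylow_map [Fact p.Prime] (N : Subgroup G) [N.Normal] (S : Sylow p (G ⧸ N)) :
    ∃ P : Sylow p G, (P : Subgroup G).map (QuotientGroup.mk' N) = (S : Subgroup (G ⧸ N)) := by
  obtain ⟨P⟩ := (inferInstance : Nonempty (Sylow p G))
  obtain ⟨g, hg⟩ := MulAction.exists_smul_eq (G ⧸ N)
    (P.mapSurjective (QuotientGroup.mk'_surjective N)) S
  obtain ⟨g, rfl⟩ := QuotientGroup.mk'_surjective N g
  refine ⟨g • P, ?_⟩
  rw [← hg, Sylow.coe_subgroup_smul, Sylow.coe_subgroup_smul]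
  exact Basics.map_conj_smul (QuotientGroup.mk' N) g _

/-- An element centralising a `p`-group `N` commutes with what it commutes with modulo `N`. -/
theorem commute_of_mod [Fact p.Prime] [Fact q.Prime] (hpq : p ≠ q) (N : Subgroup G) [N.Normal]
    (hN : IsPGroup p N) {Q : Subgroup G} (hQ : IsPGroup q Q) (hc : ∀ n ∈ N, ∀ y ∈ Q, n * y = y * n)
    {x y : G} (hy : y ∈ Q) (hmod : x * y * x⁻¹ * y⁻¹ ∈ N) : x * y = y * x := by
  set n := x * y * x⁻¹ * y⁻¹ with hn
  obtain ⟨k, hk⟩ := hQ ⟨y, hy⟩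
  obtain ⟨j, hj⟩ := hN ⟨n, hmod⟩
  have hy1 : y ^ q ^ k = 1 := congrArg Subtype.val hk
  have h1 : x * y * x⁻¹ = n * y := by rw [hn]; group
  have h2 : (n * y) ^ q ^ k = 1 := by rw [← h1, conj_pow, hy1]; group
  rw [(show Commute n y from hc n hmod y hy).mul_pow, hy1, mul_one] at h2
  have h3 : n = 1 := orderOf_eq_one_iff.mp (Nat.eq_one_of_dvd_coprimes
    (Nat.coprime_pow_primes j k (Fact.out : p.Prime) (Fact.out : q.Prime) hpq)
    (orderOf_dvd_of_pow_eq_one (congrArg Subtype.val hj)) (orderOf_dvd_of_pow_eq_one h2))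
  rw [h3, one_mul] at h1
  exact mul_inv_eq_iff_eq_mul.mp h1

theorem mem_commutator_of_forall_lin {P : Type u} [Group P] [Finite P] {g : P}
    (h : ∀ ψ : P →* ℂˣ, ψ g = 1) : g ∈ commutator P := by
  by_contra hne
  have h1 : (Abelianization.of g : Abelianization P) ≠ 1 := fun he =>
    hne ((QuotientGroup.eq_one_iff g).mp he)
  obtain ⟨χ, hχ⟩ := CommGroup.exists_apply_ne_one_of_hasEnoughRootsOfUnity (Abelianization P) ℂ h1
  exact hχ (h (χ.comp Abelianization.of))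

/-- If the restrictions to `N` of all linear characters of `P` are `Q`-invariant then `Q` centralises
`N`. -/
theorem commute_normal [Fact p.Prime] [Fact q.Prime] (hpq : p ≠ q) (N : Subgroup G) [hNn : N.Normal]
    (hN : IsPGroup p N) (hab : ∀ a ∈ N, ∀ b ∈ N, a * b = b * a) (P Q : Subgroup G)
    (hP : IsPGroup p P) (hQ : IsPGroup q Q) (hNP : N ≤ P)
    (hmod : ∀ x ∈ P, ∀ y ∈ Q, x * y * x⁻¹ * y⁻¹ ∈ N)
    (hfix : ∀ ψ : P →* ℂˣ, ∀ y ∈ Q, ∀ n n' : P, (n : G) ∈ N → (n' : G) = y * n * y⁻¹ → ψ n' = ψ n) :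
    ∀ n ∈ N, ∀ y ∈ Q, n * y = y * n := by
  classical
  set N1 : Subgroup G := ⁅N, Q⁆ with hN1
  have hN1N : N1 ≤ N := Subgroup.commutator_le_left N Q
  have hN1P : N1 ≤ P := hN1N.trans hNP
  -- `P` normalises `N1`
  have hsame : ∀ x ∈ P, ∀ z ∈ Q, ∀ u ∈ N, ⁅u, x⁻¹ * z * x⁆ = ⁅u, z⁆ := by
    intro x hx z hz u hu
    have h1 : z⁻¹ * (x⁻¹ * z * x) ∈ N := by
      have h2 := hmod x hx z hz
      have h3 := hNn.conj_mem _ (hNn.conj_mem _ h2 x⁻¹) z⁻¹
      have h4 : z⁻¹ * (x⁻¹ * z * x) = (z⁻¹ * (x⁻¹ * (x * z * x⁻¹ * z⁻¹) * x⁻¹⁻¹) * z⁻¹⁻¹)⁻¹ := by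
        group
      rw [h4]
      exact inv_mem h3
    obtain ⟨m, hm, he⟩ : ∃ m ∈ N, x⁻¹ * z * x = z * m := ⟨_, h1, by group⟩
    have hc : u⁻¹ * m = m * u⁻¹ := hab _ (inv_mem hu) _ hm
    rw [he, commutatorElement_def, commutatorElement_def]
    calc u * (z * m) * u⁻¹ * (z * m)⁻¹ = u * z * (m * u⁻¹) * m⁻¹ * z⁻¹ := by group
      _ = u * z * (u⁻¹ * m) * m⁻¹ * z⁻¹ := by rw [hc]
      _ = u * z * u⁻¹ * z⁻¹ := by group
  have hconj : ∀ x ∈ P, ∀ u ∈ N, ∀ z ∈ Q, ⁅x * u * x⁻¹, z⁆ = x * ⁅u, z⁆ * x⁻¹ := by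
    intro x hx u hu z hz
    rw [← hsame x hx z hz u hu, commutatorElement_def, commutatorElement_def]
    group
  have hN1x : ∀ x ∈ P, ∀ v ∈ N1, x * v * x⁻¹ ∈ N1 := by
    intro x hx
    have : N1 ≤ N1.comap (MulAut.conj x).toMonoidHom := by
      rw [hN1, Subgroup.commutator_le]
      intro u hu z hz
      show x * ⁅u, z⁆ * x⁻¹ ∈ N1
      rw [← hconj x hx u hu z hz]
      exact Subgroup.commutator_mem_commutator (hNn.conj_mem u hu x) hz
    exact fun v hv => this hv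
  -- the commutative group `N1` and its quotient by `[N1, P]`
  set M : Subgroup G := ⁅N1, P⁆ with hM
  have hMN1 : M ≤ N1 := by
    rw [hM, Subgroup.commutator_le]
    intro v hv x hx
    rw [commutatorElement_def, show v * x * v⁻¹ * x⁻¹ = v * (x * v⁻¹ * x⁻¹) by group]
    exact mul_mem hv (hN1x x hx _ (inv_mem hv))
  letI : CommGroup N1 :=
    { (inferInstance : Group N1) with
      mul_comm := fun a b => Subtype.ext (hab _ (hN1N a.2) _ (hN1N b.2)) }
  have hcong : ∀ (x : G) (hx : x ∈ P) (v : N1), (QuotientGroup.mk (⟨x * v * x⁻¹, hN1x x hx v v.2⟩ : N1) :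
      N1 ⧸ M.subgroupOf N1) = QuotientGroup.mk v := by
    intro x hx v
    refine QuotientGroup.eq.mpr ?_
    rw [Subgroup.mem_subgroupOf]
    show (x * v * x⁻¹)⁻¹ * (v : G) ∈ M
    have h1 : ⁅(v : G)⁻¹, x⁆⁻¹ ∈ M := inv_mem (Subgroup.commutator_mem_commutator (inv_mem v.2) hx)
    have h2 : (x * v * x⁻¹)⁻¹ * (v : G) = ⁅(v : G)⁻¹, x⁆⁻¹ := by
      rw [commutatorElement_def]; group
    rwa [h2]
  have hmul : ∀ z ∈ Q, ∀ a ∈ N, ∀ b ∈ N, ⁅a * b, z⁆ = ⁅a, z⁆ * ⁅b, z⁆ := by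
    intro z hz a ha b hb
    have hbz : b * z * b⁻¹ * z⁻¹ ∈ N := by
      rw [show b * z * b⁻¹ * z⁻¹ = b * (z * b⁻¹ * z⁻¹) by group]
      exact mul_mem hb (hNn.conj_mem _ (inv_mem hb) z)
    have haz : a * z * a⁻¹ * z⁻¹ ∈ N := by
      rw [show a * z * a⁻¹ * z⁻¹ = a * (z * a⁻¹ * z⁻¹) by group]
      exact mul_mem ha (hNn.conj_mem _ (inv_mem ha) z)
    rw [commutatorElement_def, commutatorElement_def, commutatorElement_def]
    calc a * b * z * (a * b)⁻¹ * z⁻¹
        = (a * (b * z * b⁻¹ * z⁻¹) * a⁻¹) * (a * z * a⁻¹ * z⁻¹) := by group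
      _ = (b * z * b⁻¹ * z⁻¹) * (a * z * a⁻¹ * z⁻¹) := by
          rw [hab a ha _ hbz]; group
      _ = (a * z * a⁻¹ * z⁻¹) * (b * z * b⁻¹ * z⁻¹) := hab _ hbz _ haz
  have hkill : ∀ y ∈ Q, ∀ z ∈ Q, ∀ u ∈ (commutator P).map P.subtype, ⁅⁅u, y⁆, z⁆ ∈ M := by
    intro y hy z hz
    have hw : ∀ x : P, ⁅⁅(x : G), y⁆, z⁆ ∈ N1 := fun x =>
      Subgroup.commutator_mem_commutator (hmod x x.2 y hy) hz
    let F : P →* N1 ⧸ M.subgroupOf N1 :=
      MonoidHom.mk' (fun x => QuotientGroup.mk ⟨_, hw x⟩) fun a b => by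
        show (QuotientGroup.mk (⟨_, hw (a * b)⟩ : N1) : N1 ⧸ M.subgroupOf N1) =
          QuotientGroup.mk ⟨_, hw a⟩ * QuotientGroup.mk ⟨_, hw b⟩
        have h1 : ⁅((a * b : P) : G), y⁆ = ((a : G) * ⁅(b : G), y⁆ * (a : G)⁻¹) * ⁅(a : G), y⁆ := by
          rw [Subgroup.coe_mul, commutatorElement_def, commutatorElement_def, commutatorElement_def]
          group
        have hb : ⁅(b : G), y⁆ ∈ N := hmod b b.2 y hy
        have e : (⟨_, hw (a * b)⟩ : N1) =
            (⟨(a : G) * ⁅⁅(b : G), y⁆, z⁆ * (a : G)⁻¹, hN1x a a.2 _ (hw b)⟩ : N1) * ⟨_, hw a⟩ :=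
          Subtype.ext (by
            show ⁅⁅((a * b : P) : G), y⁆, z⁆ = _
            rw [h1, hmul z hz _ (hNn.conj_mem _ hb a) ⁅(a : G), y⁆ (hmod a a.2 y hy), hconj a a.2 _ hb z hz]
            rfl)
        rw [e, QuotientGroup.mk_mul, hcong a a.2 ⟨_, hw b⟩, mul_comm]
    rintro _ ⟨u, hu, rfl⟩
    have h : u ∈ F.ker := Abelianization.commutator_subset_ker F hu
    exact Subgroup.mem_subgroupOf.mp ((QuotientGroup.eq_one_iff _).mp (MonoidHom.mem_ker.mp h))
  -- `N1` lies in the derived subgroup of `P`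
  have hN1c : N1 ≤ (commutator P).map P.subtype := by
    rw [hN1, Subgroup.commutator_le]
    intro u hu y hy
    refine ⟨⟨⁅u, y⁆, hN1P (Subgroup.commutator_mem_commutator hu hy)⟩, ?_, rfl⟩
    refine mem_commutator_of_forall_lin fun ψ => ?_
    have h1 : y * u⁻¹ * y⁻¹ ∈ N := hNn.conj_mem _ (inv_mem hu) y
    have e : (⟨⁅u, y⁆, hN1P (Subgroup.commutator_mem_commutator hu hy)⟩ : P) =
        ⟨u, hNP hu⟩ * ⟨y * u⁻¹ * y⁻¹, hNP h1⟩ := Subtype.ext (by
          show ⁅u, y⁆ = u * (y * u⁻¹ * y⁻¹)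
          rw [commutatorElement_def]; group)
    rw [e, map_mul, hfix ψ y hy ⟨u, hNP hu⟩⁻¹ ⟨y * u⁻¹ * y⁻¹, hNP h1⟩ (inv_mem hu) rfl, ← map_mul,
      mul_inv_cancel, map_one]
  let V : Subgroup G :=
    { carrier := {v | v ∈ N ∧ ∀ z ∈ Q, ⁅v, z⁆ ∈ M}
      one_mem' := ⟨one_mem _, fun z _ => by simp⟩
      mul_mem' := fun {a b} ha hb => ⟨mul_mem ha.1 hb.1, fun z hz => by
        rw [hmul z hz a ha.1 b hb.1]; exact mul_mem (ha.2 z hz) (hb.2 z hz)⟩
      inv_mem' := fun {a} ha => ⟨inv_mem ha.1, fun z hz => by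
        have h := hmul z hz a ha.1 a⁻¹ (inv_mem ha.1)
        rw [mul_inv_cancel, commutatorElement_one_left] at h
        rw [← inv_eq_of_mul_eq_one_right h.symm]
        exact inv_mem (ha.2 z hz)⟩ }
  have hV : ⁅N1, Q⁆ ≤ V := by
    rw [Subgroup.commutator_le]
    intro u hu y hy
    exact ⟨Subgroup.commutator_le_left N Q (Subgroup.commutator_mem_commutator (hN1N hu) hy),
      fun z hz => hkill y hy z hz u (hN1c hu)⟩
  have hQN : Q ≤ Subgroup.normalizer (N : Set G) := Subgroup.le_normalizer_of_normal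
  have hcop : (Nat.card Q).Coprime (Nat.card N) := by
    obtain ⟨j, hj⟩ := hN.exists_card_eq
    obtain ⟨k, hk⟩ := hQ.exists_card_eq
    rw [hj, hk]
    exact Nat.coprime_pow_primes k j (Fact.out : q.Prime) (Fact.out : p.Prime) (Ne.symm hpq)
  have hsolv : Group.IsSolvable Q ∨ Group.IsSolvable N := Or.inl (by
    haveI := hQ.isNilpotent
    infer_instance)
  have h2 := Basics.commutator_commutator_eq Q N hQN hcop hsolv
  have hle : N1 ≤ M := by
    have h3 : ⁅⁅N1, Q⁆, Q⁆ ≤ M := by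
      rw [Subgroup.commutator_le]
      exact fun v hv z hz => (hV hv).2 z hz
    rwa [hN1, h2, h2] at h3
  have hN1bot : N1 = ⊥ := by
    by_contra hne
    exact Basics.commutator_ne_self_of_isNilpotent hP.isNilpotent hN1P le_rfl hne
      (le_antisymm hMN1 hle)
  intro n hn y hy
  have h := Subgroup.commutator_mem_commutator (H₁ := N) (H₂ := Q) hn hy
  rw [← hN1, hN1bot, Subgroup.mem_bot] at h
  exact commutatorElement_eq_one_iff_mul_comm.mp h

/-- A character of degree prime to `p` has a constituent of degree prime to `p`. -/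
theorem exists_constituent_not_dvd [Fintype G] {θ : G → ℂ} (hθ : Cfsg.IsCharacter G θ)
    (h : ¬ p ∣ CT.deg θ) :
    ∃ χ : Cfsg.IrrCharacter G, Cfsg.classInner θ (χ : G → ℂ) ≠ 0 ∧ ¬ p ∣ CT.deg (χ : G → ℂ) := by
  classical
  by_contra hcon
  push Not at hcon
  refine h ?_
  have he := congrFun (CT.character_eq_sum hθ) 1
  simp only [Finset.sum_apply, Pi.smul_apply, smul_eq_mul] at he
  rw [CT.deg_eq hθ, Finset.sum_congr rfl fun c _ => by
    rw [CT.deg_eq (CT.isCharacter_of_isIrr c.2)]] at he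
  have he' : CT.deg θ = ∑ c : Cfsg.IrrCharacter G, CT.mult θ c * CT.deg (c : G → ℂ) := by
    exact_mod_cast he
  rw [he']
  refine Finset.dvd_sum fun c _ => ?_
  rcases Nat.eq_zero_or_pos (CT.mult θ c) with h0 | h0
  · simp [h0]
  · refine dvd_mul_of_dvd_right (hcon c ?_) _
    rw [CT.mult_spec hθ (CT.isCharacter_of_isIrr c.2)]
    exact Nat.cast_ne_zero.mpr h0.ne'

set_option maxHeartbeats 2000000 in
/-- The main reduction: a normal subgroup `N` that is an abelian `p`-group, with commuting Sylow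
subgroups modulo `N`. -/
theorem commute_step [Fact p.Prime] [Fact q.Prime] (hpq : p ≠ q) (hps : Cfsg.IsPSolvable p G)
    (hqs : Cfsg.IsPSolvable q G) (hO : Cfsg.pPrimeCore p G = ⊥) (hH : Hyp p q G)
    (N : Subgroup G) [N.Normal] (hN : IsPGroup p N) (hab : ∀ a ∈ N, ∀ b ∈ N, a * b = b * a)
    (P : Sylow p G) (Q : Sylow q G)
    (hmod : ∀ x ∈ (P : Subgroup G), ∀ y ∈ (Q : Subgroup G), x * y * x⁻¹ * y⁻¹ ∈ N) :
    ∀ n ∈ N, ∀ y ∈ (Q : Subgroup G), n * y = y * n := by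
  classical
  letI := Fintype.ofFinite G
  letI : Fintype (G ⧸ N) := Fintype.ofFinite _
  have hall : ∀ χ : Cfsg.IrrCharacter G, ¬ p ∣ CT.deg (χ : G → ℂ) → ¬ q ∣ CT.deg (χ : G → ℂ) :=
    fun χ => hH χ fun x hx => by rw [hO, Subgroup.mem_bot] at hx; rw [hx]
  have hall1 : ∀ χ : Cfsg.IrrCharacter (G ⧸ N), ¬ p ∣ CT.deg (χ : G ⧸ N → ℂ) →
      ¬ q ∣ CT.deg (χ : G ⧸ N → ℂ) := fun χ =>
    hall ⟨fun g => (χ : G ⧸ N → ℂ) (QuotientGroup.mk' N g),
      CT.isIrrCharacter_comp (QuotientGroup.mk' N) (QuotientGroup.mk'_surjective N) χ.2⟩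
  set K : Subgroup (G ⧸ N) := Cfsg.pPrimeCore p (G ⧸ N) with hKdef
  set Pb : Sylow p (G ⧸ N) := P.mapSurjective (QuotientGroup.mk'_surjective N) with hPb
  set Qb : Sylow q (G ⧸ N) := Q.mapSurjective (QuotientGroup.mk'_surjective N) with hQb
  have hPQ : ∀ x ∈ (Pb : Subgroup (G ⧸ N)), ∀ y ∈ (Qb : Subgroup (G ⧸ N)), x * y = y * x := by
    rintro _ ⟨x, hx, rfl⟩ _ ⟨y, hy, rfl⟩
    have h := (QuotientGroup.eq_one_iff (N := N) _).mpr (hmod x hx y hy)
    simp only [QuotientGroup.mk_mul, QuotientGroup.mk_inv] at h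
    exact mul_inv_eq_iff_eq_mul.mp (mul_inv_eq_one.mp h)
  have hQK : (Qb : Subgroup (G ⧸ N)) ≤ K := fun y hy => by
    obtain ⟨k, hk⟩ := Qb.2 ⟨y, hy⟩
    exact mem_pPrimeCore_of_commute hpq
      (Coprime23.isPSolvable_map (QuotientGroup.mk' N) (QuotientGroup.mk'_surjective N) hps) Pb
      (congrArg Subtype.val hk) fun x hx => hPQ x hx y hy
  set Qk : Sylow q K := Qb.subtype hQK with hQk
  let α := conjAct K (Pb : Subgroup (G ⧸ N)) fun s _ g hg =>
    (inferInstance : K.Normal).conj_mem g hg s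
  letI : Fintype K := Fintype.ofFinite K
  have hpK : ¬ p ∣ Nat.card K := Basics.not_dvd_card_pPrimeCore p
  have hQfix : ∀ a, ∀ y ∈ (Qk : Subgroup K), α a y = y := fun a y hy => Subtype.ext (by
    show a.1 * y.1 * a.1⁻¹ = y.1
    rw [hPQ a.1 a.2 y.1 hy]; group)
  have hdeg : ∀ θ : Cfsg.IrrCharacter K, Inv α (θ : K → ℂ) → ¬ q ∣ CT.deg (θ : K → ℂ) := by
    intro θ hθ
    set T : Subgroup (G ⧸ N) := K ⊔ (Pb : Subgroup (G ⧸ N))
    have hTI : T ≤ CT.inertia K (θ : K → ℂ) := sup_le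
      (CT.le_inertia K (CT.isClassFunction_of_isIrr θ.2)) fun x hx => by
        rw [CT.mem_inertia_iff]
        exact fun n => hθ ⟨x, hx⟩ n
    haveI : (K.subgroupOf T).Normal := Subgroup.normal_subgroupOf
    let e : K.subgroupOf T ≃* K := Subgroup.subgroupOfEquivOfLe le_sup_left
    let θ' : Cfsg.IrrCharacter (K.subgroupOf T) := compIrr e θ
    have hidx : ∃ j, (K.subgroupOf T).index = p ^ j := by
      obtain ⟨j, hj⟩ := Pb.2.index (K.subgroupOf (Pb : Subgroup (G ⧸ N)))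
      refine ⟨j, ?_⟩
      rw [← hj]
      exact Subgroup.relIndex_sup_left (H := (Pb : Subgroup (G ⧸ N))) (K := K)
    obtain ⟨j, hj⟩ := hidx
    have hcopK : (K.subgroupOf T).index.Coprime (Nat.card (K.subgroupOf T)) := by
      rw [hj, Nat.card_congr e.toEquiv]
      exact ((Fact.out : p.Prime).coprime_iff_not_dvd.mpr hpK).pow_left j
    letI : Fintype (K.subgroupOf T) := Fintype.ofFinite _
    letI : Fintype T := Fintype.ofFinite _
    obtain ⟨σ, ⟨hσ, -⟩, -⟩ := CoprimeExt.exists_coprime_ext (K.subgroupOf T) θ'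
      (fun g n => (CT.mem_inertia_iff K).mp (hTI g.2) (e n))
      (hcopK.coprime_dvd_right (Glauberman.deg_dvd_card θ'))
      (hcopK.coprime_dvd_right (CoprimeExt.detOrder_dvd_card (CT.isCharacter_of_isIrr θ'.2)))
    have hσdeg : CT.deg (σ : T → ℂ) = CT.deg (θ : K → ℂ) := by
      unfold CT.deg
      rw [show (σ : T → ℂ) 1 = (θ : K → ℂ) 1 by
        have := hσ 1
        rw [show (θ' : K.subgroupOf T → ℂ) 1 = (θ : K → ℂ) (e 1) from rfl, map_one] at this
        exact this]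
    have hind := CT.isCharacter_indFun T (CT.isCharacter_of_isIrr σ.2)
    have hindeg : ¬ p ∣ CT.deg (Cfsg.indFun T (σ : T → ℂ)) := by
      have h := CT.indFun_one_eval T (σ : T → ℂ)
      rw [CT.deg_eq hind, CT.deg_eq (CT.isCharacter_of_isIrr σ.2), hσdeg] at h
      rw [show CT.deg (Cfsg.indFun T (σ : T → ℂ)) = T.index * CT.deg (θ : K → ℂ) by exact_mod_cast h]
      intro hd
      rcases (Fact.out : p.Prime).dvd_mul.mp hd with hd | hd
      · exact Pb.not_dvd_index (hd.trans (Subgroup.index_dvd_of_le le_sup_right))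
      · exact hpK (hd.trans (Glauberman.deg_dvd_card θ))
    obtain ⟨χ, hχ, hχp⟩ := exists_constituent_not_dvd hind hindeg
    have h1 : Cfsg.classInner (fun t : T => (χ : G ⧸ N → ℂ) t) (σ : T → ℂ) ≠ 0 := by
      rw [CT.frobenius_reciprocity T _ (CT.isClassFunction_of_isIrr χ.2),
        CT.classInner_comm_of_char (CT.isCharacter_of_isIrr σ.2)
          (CT.isCharacter_restrict T (CT.isCharacter_of_isIrr χ.2))] at hχ
      exact hχ
    have h2 := CT.classInner_eq_of_res_ne_zero (H := K.subgroupOf T)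
      (CT.isCharacter_restrict T (CT.isCharacter_of_isIrr χ.2)) σ.2 (CT.isCharacter_of_isIrr θ'.2) h1
      (by
        rw [show (fun x : K.subgroupOf T => (σ : T → ℂ) x) = (θ' : K.subgroupOf T → ℂ) from
          funext hσ, CT.irr_inner_self θ'.2]
        exact one_ne_zero)
    have h3 : Cfsg.classInner (fun k : K => (χ : G ⧸ N → ℂ) k) (θ : K → ℂ) ≠ 0 := by
      rw [← classInner_comp_equiv e]
      exact h2
    intro hq
    refine hall1 χ hχp ?_
    rw [CT.clifford_mult K χ.2 θ.2 h3]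
    exact dvd_mul_of_dvd_right hq _
  refine commute_normal hpq N hN hab P Q P.2 Q.2 (hN.le_sylow_of_normal P) hmod ?_
  intro ψ y hy n n' hn hn'
  -- the restriction of `ψ` to `N`
  let φl : N →* ℂˣ := ψ.comp (Subgroup.inclusion (hN.le_sylow_of_normal P))
  let φ : N → ℂ := fun x => (φl x : ℂ)
  have hφirr : Cfsg.IsIrrCharacter N φ := CT.isIrrCharacter_lin φl
  letI : Fintype N := Fintype.ofFinite N
  letI : Fintype (P : Subgroup G) := Fintype.ofFinite _
  have hind := CT.isCharacter_indFun (P : Subgroup G) (CT.isCharacter_lin ψ)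
  have hindeg : ¬ p ∣ CT.deg (Cfsg.indFun (P : Subgroup G) fun x => (ψ x : ℂ)) := by
    have h := CT.indFun_one_eval (P : Subgroup G) (fun x => (ψ x : ℂ))
    rw [CT.deg_eq hind, map_one, Units.val_one, mul_one] at h
    rw [show CT.deg (Cfsg.indFun (P : Subgroup G) fun x => (ψ x : ℂ)) = (P : Subgroup G).index by
      exact_mod_cast h]
    exact P.not_dvd_index
  obtain ⟨χ, hχ, hχp⟩ := exists_constituent_not_dvd hind hindeg
  set NP : Subgroup (P : Subgroup G) := N.subgroupOf (P : Subgroup G)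
  let e : NP ≃* N := Subgroup.subgroupOfEquivOfLe (hN.le_sylow_of_normal P)
  letI : Fintype NP := Fintype.ofFinite _
  have h3 : Cfsg.classInner (fun x : N => (χ : G → ℂ) x) φ ≠ 0 := by
    rw [CT.frobenius_reciprocity _ _ (CT.isClassFunction_of_isIrr χ.2),
      CT.classInner_comm_of_char (CT.isCharacter_lin ψ)
        (CT.isCharacter_restrict _ (CT.isCharacter_of_isIrr χ.2))] at hχ
    have h2 := CT.classInner_eq_of_res_ne_zero (H := NP)
      (CT.isCharacter_restrict _ (CT.isCharacter_of_isIrr χ.2)) (CT.isIrrCharacter_lin ψ)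
      (η := fun x : NP => φ (e x)) (CT.isCharacter_comp e.toMonoidHom (CT.isCharacter_of_isIrr hφirr))
      hχ (by
        rw [show (fun x : NP => ((ψ x.1 : ℂˣ) : ℂ)) = fun x : NP => φ (e x) from funext fun x => rfl]
        exact fun h0 => one_ne_zero ((CT.irr_inner_self
          (CT.isIrrCharacter_comp e.toMonoidHom e.surjective hφirr)).symm.trans h0))
    rw [← classInner_comp_equiv e]
    exact h2
  set I : Subgroup G := CT.inertia N φ with hI
  have hIq : ¬ q ∣ I.index := fun h => hall χ hχp (by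
    rw [CT.clifford_mult N χ.2 hφirr h3]
    exact dvd_mul_of_dvd_left (dvd_mul_of_dvd_right h _) _)
  have hPI : (P : Subgroup G) ≤ I := fun x hx => by
    rw [hI, CT.mem_inertia_iff]
    intro m
    show ((ψ ⟨x * m * x⁻¹, _⟩ : ℂˣ) : ℂ) = ((ψ ⟨(m : G), _⟩ : ℂˣ) : ℂ)
    congr 1
    have hx' : (m : G) ∈ (P : Subgroup G) := hN.le_sylow_of_normal P m.2
    rw [show (⟨x * m * x⁻¹, hN.le_sylow_of_normal P ((inferInstance : N.Normal).conj_mem _ m.2 x)⟩ :
      (P : Subgroup G)) = ⟨x, hx⟩ * ⟨m, hx'⟩ * ⟨x, hx⟩⁻¹ from rfl, map_mul, map_mul, map_inv,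
      mul_inv_eq_iff_eq_mul, mul_comm]
  set Ib : Subgroup (G ⧸ N) := I.map (QuotientGroup.mk' N)
  have hIK : ¬ q ∣ (Ib.subgroupOf K).index := by
    have h1 : ¬ q ∣ Ib.index := fun h =>
      hIq (h.trans (I.index_map_dvd (QuotientGroup.mk'_surjective N)))
    obtain ⟨S⟩ := (inferInstance : Nonempty (Sylow q Ib))
    set S' : Subgroup (G ⧸ N) := (S : Subgroup Ib).map Ib.subtype
    have hS' : ¬ q ∣ S'.index := by
      rw [Subgroup.index_map_subtype]
      exact fun h => ((Fact.out : q.Prime).dvd_mul.mp h).elim S.not_dvd_index h1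
    obtain ⟨g, hg⟩ := MulAction.exists_smul_eq (G ⧸ N) Qb ((S.2.map Ib.subtype).toSylow hS')
    have hSK : S' ≤ K := by
      intro s hs
      have : s ∈ ((g • Qb : Sylow q (G ⧸ N)) : Subgroup (G ⧸ N)) := by rw [hg]; exact hs
      rw [Sylow.coe_subgroup_smul] at this
      obtain ⟨t, ht, rfl⟩ := this
      exact (inferInstance : K.Normal).conj_mem t (hQK ht) g
    intro h
    apply hS'
    have h2 : Ib.relIndex K ∣ (Ib ⊓ K).index := by
      rw [← Subgroup.inf_relIndex_right]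
      exact Dvd.intro (Subgroup.index K) (Subgroup.relIndex_mul_index inf_le_right)
    exact (h.trans h2).trans (Subgroup.index_dvd_of_le (le_inf (Subgroup.map_subtype_le _) hSK))
  have hIinv : ∀ a, ∀ x ∈ Ib.subgroupOf K, α a x ∈ Ib.subgroupOf K := by
    rintro ⟨a, ha⟩ x hx
    have ha' : a ∈ Ib := by
      obtain ⟨x, hx, rfl⟩ := ha
      exact ⟨x, hPI hx, rfl⟩
    exact mul_mem (mul_mem ha' hx) (inv_mem ha')
  obtain ⟨c, hc, hcI⟩ := exists_fixed_conj_le Pb.2 hpK Qk hQfix _ hIinv hIK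
  have hK' : Cfsg.IsPSolvable q K := Blocks.isPSolvable_subgroup
    (Coprime23.isPSolvable_map (QuotientGroup.mk' N) (QuotientGroup.mk'_surjective N) hqs) K
  have hyb : (y : G ⧸ N) ∈ (Qb : Subgroup (G ⧸ N)) := ⟨y, hy, rfl⟩
  have hy1 : (⟨_, hQK hyb⟩ : K) ∈ (Qk : Subgroup K) := hyb
  have hy2 := fixed_normalize hK' Pb.2 hpK Qk hQfix hdeg c⁻¹
    (fun a => by rw [map_inv, hc a]) hy1
  have hy3 := hcI _ hy2
  rw [show c * (c⁻¹ * (⟨_, hQK hyb⟩ : K) * c⁻¹⁻¹) * c⁻¹ = (⟨_, hQK hyb⟩ : K) by group] at hy3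
  have hyI : y ∈ I := by
    obtain ⟨z, hz, hzy⟩ := (hy3 : (y : G ⧸ N) ∈ Ib)
    have h1 : z⁻¹ * y ∈ N := QuotientGroup.eq.mp hzy
    have h2 := mul_mem hz (CT.le_inertia N (CT.isClassFunction_of_isIrr hφirr) h1)
    rwa [mul_inv_cancel_left] at h2
  have h4 := (CT.mem_inertia_iff N).mp hyI ⟨n, hn⟩
  apply Units.ext
  rw [show n' = ⟨y * n * y⁻¹, hN.le_sylow_of_normal P
      ((inferInstance : N.Normal).conj_mem _ hn y)⟩ from Subtype.ext hn']
  exact h4

theorem exists_commute_aux : ∀ (n : ℕ) (G : Type u) [Group G] [Finite G] (p q : ℕ) [Fact p.Prime]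
    [Fact q.Prime], p ≠ q → Nat.card G = n → Cfsg.IsPSolvable p G → Cfsg.IsPSolvable q G →
    Hyp p q G → Hyp q p G →
    ∃ (P : Sylow p G) (Q : Sylow q G), ∀ x ∈ (P : Subgroup G), ∀ y ∈ (Q : Subgroup G),
      x * y = y * x := by
  intro n
  induction n using Nat.strong_induction_on with
  | _ n ih =>
  intro G _ _ p q _ _ hpq hn hps hqs hH hH'
  classical
  rcases subsingleton_or_nontrivial G with hG | hG
  · exact ⟨default, default, fun x _ y _ => Subsingleton.elim _ _⟩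
  -- commuting Sylow subgroups modulo a nontrivial normal subgroup
  have hquot : ∀ (N : Subgroup G) [N.Normal], N ≠ ⊥ → ∃ (P : Sylow p G) (Q : Sylow q G),
      ∀ x ∈ (P : Subgroup G), ∀ y ∈ (Q : Subgroup G), x * y * x⁻¹ * y⁻¹ ∈ N := by
    intro N _ hN
    obtain ⟨Pb, Qb, h⟩ := ih _ (hn ▸ Basics.card_quotient_lt hN) (G ⧸ N) p q hpq rfl
      (Coprime23.isPSolvable_map (QuotientGroup.mk' N) (QuotientGroup.mk'_surjective N) hps)
      (Coprime23.isPSolvable_map (QuotientGroup.mk' N) (QuotientGroup.mk'_surjective N) hqs)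
      (hyp_quotient hH N) (hyp_quotient hH' N)
    obtain ⟨P, hP⟩ := exists_sylow_map N Pb
    obtain ⟨Q, hQ⟩ := exists_sylow_map N Qb
    refine ⟨P, Q, fun x hx y hy => (QuotientGroup.eq_one_iff _).mp ?_⟩
    have hc := h (QuotientGroup.mk' N x) (hP ▸ ⟨x, hx, rfl⟩) (QuotientGroup.mk' N y) (hQ ▸ ⟨y, hy, rfl⟩)
    show QuotientGroup.mk' N (x * y * x⁻¹ * y⁻¹) = 1
    rw [map_mul, map_mul, map_mul, map_inv, map_inv, hc]
    group
  by_cases hA : ∃ (N : Subgroup G) (_ : N.Normal), N ≠ ⊥ ∧ ¬ p ∣ Nat.card N ∧ ¬ q ∣ Nat.card N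
  · obtain ⟨N, hNn, hN, hNp, hNq⟩ := hA
    obtain ⟨P, Q, hmod⟩ := hquot N hN
    set f := QuotientGroup.mk' N
    set Pb := (P : Subgroup G).map f
    set Qb := (Q : Subgroup G).map f
    have hcomm : ∀ a ∈ Pb, ∀ b ∈ Qb, a * b = b * a := by
      rintro _ ⟨x, hx, rfl⟩ _ ⟨y, hy, rfl⟩
      have h := (QuotientGroup.eq_one_iff (N := N) _).mpr (hmod x hx y hy)
      simp only [QuotientGroup.mk_mul, QuotientGroup.mk_inv] at h
      exact mul_inv_eq_iff_eq_mul.mp (mul_inv_eq_one.mp h)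
    set H : Subgroup G := (Pb ⊔ Qb).comap f with hHdef
    have hNH : N ≤ H := fun x hx => by
      show (x : G ⧸ N) ∈ Pb ⊔ Qb
      rw [(QuotientGroup.eq_one_iff x).mpr hx]
      exact one_mem _
    have hQn : Qb ≤ Subgroup.normalizer (Pb : Set (G ⧸ N)) := by
      intro b hb
      refine Subgroup.mem_normalizer_iff.mpr fun a => ⟨fun ha => ?_, fun ha => ?_⟩
      · rwa [← hcomm a ha b hb, mul_inv_cancel_right]
      · have h1 := hcomm _ ha b hb
        rw [inv_mul_cancel_right, mul_right_inj] at h1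
        rw [h1]; exact ha
    have hcard : ∀ {r : ℕ} [Fact r.Prime] (R : Sylow r G), ¬ r ∣ Nat.card N →
        Nat.card ((R : Subgroup G).map f) = r ^ (Nat.card G).factorization r := by
      intro r _ R hr
      rw [← R.card_eq_multiplicity]
      refine Nat.card_congr (Equiv.ofBijective (fun x : (R : Subgroup G) =>
        (⟨f x, ⟨x, x.2, rfl⟩⟩ : (R : Subgroup G).map f)) ⟨fun a b hab => ?_, fun ⟨_, x, hx, rfl⟩ =>
          ⟨⟨x, hx⟩, rfl⟩⟩).symm
      have h1 : (a : G)⁻¹ * b ∈ N := QuotientGroup.eq.mp (congrArg Subtype.val hab)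
      exact Subtype.ext (inv_mul_eq_one.mp (eq_one_of_two_primes R.2
        ((Fact.out : r.Prime).coprime_iff_not_dvd.mpr hr).symm (mul_mem (inv_mem a.2) b.2) h1))
    have hcp := hcard P hNp
    have hcq := hcard Q hNq
    have hcop : (Nat.card Pb).Coprime (Nat.card Qb) := by
      rw [hcp, hcq]
      exact Nat.coprime_pow_primes _ _ (Fact.out : p.Prime) (Fact.out : q.Prime) hpq
    have hcardH : Nat.card H = Nat.card N * (Nat.card Pb * Nat.card Qb) := by
      rw [hHdef, Basics.card_comap_mk', Basics.card_sup_of_coprime hQn hcop]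
    haveI : (N.subgroupOf H).Normal := Subgroup.normal_subgroupOf
    obtain ⟨K, hK⟩ := Subgroup.exists_right_complement'_of_coprime (N := N.subgroupOf H) (by
      have h1 := (N.subgroupOf H).card_mul_index
      rw [Nat.card_congr (Subgroup.subgroupOfEquivOfLe hNH).toEquiv, hcardH] at h1
      rw [Nat.card_congr (Subgroup.subgroupOfEquivOfLe hNH).toEquiv,
        Nat.eq_of_mul_eq_mul_left Nat.card_pos h1, hcp, hcq]
      exact (((Fact.out : p.Prime).coprime_iff_not_dvd.mpr hNp).symm.pow_right _).mul_right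
        (((Fact.out : q.Prime).coprime_iff_not_dvd.mpr hNq).symm.pow_right _))
    let g : K →* G ⧸ N := f.comp (H.subtype.comp K.subtype)
    have hg : Function.Injective g := by
      rw [injective_iff_map_eq_one]
      intro k hk
      have h1 : (k : H) ∈ N.subgroupOf H := Subgroup.mem_subgroupOf.mpr
        ((QuotientGroup.eq_one_iff ((k : H) : G)).mp hk)
      have h2 : (k : H) ∈ N.subgroupOf H ⊓ K := ⟨h1, k.2⟩
      rw [hK.disjoint.eq_bot, Subgroup.mem_bot] at h2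
      exact Subtype.ext h2
    have himg : g.range = Pb ⊔ Qb := by
      refine Subgroup.eq_of_le_of_card_ge (fun _ ⟨k, hk⟩ => hk ▸ k.1.2) ?_
      rw [Nat.card_congr (MonoidHom.ofInjective hg).toEquiv.symm,
        Basics.card_sup_of_coprime hQn hcop]
      have h := hK.card_mul
      rw [Nat.card_congr (Subgroup.subgroupOfEquivOfLe hNH).toEquiv, hcardH] at h
      exact (Nat.eq_of_mul_eq_mul_left Nat.card_pos h).ge
    let j : K →* G := H.subtype.comp K.subtype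
    have hj : Function.Injective j := H.subtype_injective.comp K.subtype_injective
    have hsyl : ∀ {r : ℕ} [Fact r.Prime] (R : Subgroup (G ⧸ N)), R ≤ Pb ⊔ Qb →
        Nat.card R = r ^ (Nat.card G).factorization r →
        Nat.card ((R.comap g).map j) = r ^ (Nat.card G).factorization r := by
      intro r _ R hR hcR
      rw [Subgroup.card_map_of_injective hj, ← Subgroup.card_map_of_injective hg,
        Subgroup.map_comap_eq_self (himg ▸ hR), hcR]
    refine ⟨Sylow.ofCard _ (hsyl Pb le_sup_left hcp), Sylow.ofCard _ (hsyl Qb le_sup_right hcq),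
      fun x hx y hy => ?_⟩
    rw [Sylow.coe_ofCard] at hx hy
    obtain ⟨a, ha, rfl⟩ := hx
    obtain ⟨b, hb, rfl⟩ := hy
    rw [← map_mul, ← map_mul]
    exact congrArg j (hg (by rw [map_mul, map_mul]; exact hcomm _ ha _ hb))
  -- every nontrivial normal subgroup meets one of the cores
  push Not at hA
  by_cases hboth : Cfsg.pPrimeCore p G = ⊥ ∨ Cfsg.pPrimeCore q G = ⊥
  · have key : ∀ (p q : ℕ) [Fact p.Prime] [Fact q.Prime], p ≠ q → Cfsg.IsPSolvable p G →
        Cfsg.IsPSolvable q G → Hyp p q G → Cfsg.pPrimeCore p G = ⊥ →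
        (∀ (N : Subgroup G) [N.Normal], N ≠ ⊥ → ∃ (P : Sylow p G) (Q : Sylow q G),
          ∀ x ∈ (P : Subgroup G), ∀ y ∈ (Q : Subgroup G), x * y * x⁻¹ * y⁻¹ ∈ N) →
        ∃ (P : Sylow p G) (Q : Sylow q G), ∀ x ∈ (P : Subgroup G), ∀ y ∈ (Q : Subgroup G),
          x * y = y * x := by
      intro p q _ _ hpq hps hqs hH hO hquot
      have hne : Cfsg.pCore p G ≠ ⊥ := (Coprime23.exists_core_ne_bot hps).resolve_right (not_not.mpr hO)
      obtain ⟨r, N, -, hNn, hNle, hN1, hNab, -⟩ := Basics.exists_elementary_normal hne (by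
        haveI := (Basics.pCore_isPGroup (G := G) p).isNilpotent
        infer_instance)
      haveI := hNn
      obtain ⟨P, Q, hmod⟩ := hquot N hN1
      have hNp : IsPGroup p N := (Basics.pCore_isPGroup p).to_le hNle
      have hab : ∀ a ∈ N, ∀ b ∈ N, a * b = b * a := fun a ha b hb =>
        congrArg Subtype.val (hNab.is_comm.comm ⟨a, ha⟩ ⟨b, hb⟩)
      have hc := commute_step hpq hps hqs hO hH N hNp hab P Q hmod
      exact ⟨P, Q, fun x hx y hy => commute_of_mod hpq N hNp Q.2 hc hy (hmod x hx y hy)⟩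
    rcases hboth with h | h
    · exact key p q hpq hps hqs hH h hquot
    · obtain ⟨Q, P, hc⟩ := key q p (Ne.symm hpq) hqs hps hH' h (fun N _ hN => by
        obtain ⟨P, Q, hc⟩ := hquot N hN
        exact ⟨Q, P, fun y hy x hx => by
          have h1 := inv_mem (hc x hx y hy)
          rwa [show (x * y * x⁻¹ * y⁻¹)⁻¹ = y * x * y⁻¹ * x⁻¹ by group] at h1⟩)
      exact ⟨P, Q, fun x hx y hy => (hc y hy x hx).symm⟩
  push Not at hboth
  -- both cores nontrivial: a normal `p`-subgroup and a normal `q`-subgroup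
  have hex : ∀ (p q : ℕ) [Fact p.Prime] [Fact q.Prime], p ≠ q → Cfsg.IsPSolvable p G →
      Cfsg.pPrimeCore q G ≠ ⊥ → (∀ N : Subgroup G, N.Normal → N ≠ ⊥ → p ∣ Nat.card N ∨ q ∣ Nat.card N) →
      Cfsg.pCore p G ≠ ⊥ := by
    intro p q _ _ hpq hps hO hA hP
    obtain ⟨n, C, h0, h1, hmono, hn, hfac⟩ := hps
    have hex : ∃ i : Fin n, C i.castSucc ⊓ Cfsg.pPrimeCore q G = ⊥ ∧
        C i.succ ⊓ Cfsg.pPrimeCore q G ≠ ⊥ := by
      by_contra hcon
      have : ∀ i : Fin (n + 1), C i ⊓ Cfsg.pPrimeCore q G = ⊥ := by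
        intro i
        induction i using Fin.induction with
        | zero => simp [h0]
        | succ j ih => by_contra hj; exact hcon ⟨j, ih, hj⟩
      exact hO (by simpa [h1] using this (Fin.last n))
    obtain ⟨i, hi0, hi1⟩ := hex
    haveI := hn i.succ
    haveI := hn i.castSucc
    set E := C i.succ ⊓ Cfsg.pPrimeCore q G
    have hdvd : Nat.card E ∣ (C i.castSucc).relIndex (C i.succ) := by
      have : Nat.card E = (C i.castSucc).relIndex E := by
        rw [← Subgroup.inf_relIndex_right, show C i.castSucc ⊓ E = ⊥ from le_bot_iff.mp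
          (hi0 ▸ inf_le_inf_left _ inf_le_right), Subgroup.relIndex_bot_left]
      rw [this]
      haveI : ((C i.castSucc).subgroupOf (C i.succ)).Normal := Subgroup.normal_subgroupOf
      rw [← Subgroup.relIndex_subgroupOf (show E ≤ C i.succ from inf_le_left)]
      exact Subgroup.relIndex_dvd_index_of_normal _ _
    have hEq : ¬ q ∣ Nat.card E := fun h => Basics.not_dvd_card_pPrimeCore q
      (h.trans (Subgroup.card_dvd_of_le inf_le_right))
    rcases hA E inferInstance hi1 with hd | hd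
    · rcases hfac i with ⟨m, hm⟩ | hc
      · refine hi1 (le_bot_iff.mp (hP ▸ ?_))
        obtain ⟨j, -, hj⟩ := (Nat.dvd_prime_pow (Fact.out : p.Prime)).mp (hm ▸ hdvd)
        exact Basics.le_pCore (IsPGroup.of_card hj)
      · exact (Fact.out : p.Prime).not_dvd_one (hc ▸ Nat.dvd_gcd (hd.trans hdvd) dvd_rfl)
    · exact hEq hd
  have hA' : ∀ N : Subgroup G, N.Normal → N ≠ ⊥ → p ∣ Nat.card N ∨ q ∣ Nat.card N :=
    fun N hN h1 => or_iff_not_imp_left.mpr fun h => hA N hN h1 h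
  have hOp : Cfsg.pCore p G ≠ ⊥ := hex p q hpq hps hboth.2 hA'
  have hOq : Cfsg.pCore q G ≠ ⊥ :=
    hex q p (Ne.symm hpq) hqs hboth.1 fun N hN h1 => (hA' N hN h1).symm
  set A := Cfsg.pCore p G
  set B := Cfsg.pCore q G
  have hAB : A ⊓ B = ⊥ := (Subgroup.disjoint_of_coprime_natCard (by
    obtain ⟨a, ha⟩ := (Basics.pCore_isPGroup (G := G) p).exists_card_eq
    obtain ⟨b, hb⟩ := (Basics.pCore_isPGroup (G := G) q).exists_card_eq
    rw [ha, hb]
    exact Nat.coprime_pow_primes a b (Fact.out : p.Prime) (Fact.out : q.Prime) hpq)).eq_bot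
  obtain ⟨P₁, Q₁, h1⟩ := hquot A hOp
  obtain ⟨P₂, Q₂, h2⟩ := hquot B hOq
  -- every Sylow `q`-subgroup centralises `A`
  have hAQ₂ : ∀ n ∈ A, ∀ y ∈ (Q₂ : Subgroup G), n * y = y * n := fun n hn y hy => by
    have h3 : n * y * n⁻¹ * y⁻¹ ∈ A ⊓ B := ⟨by
      rw [show n * y * n⁻¹ * y⁻¹ = n * (y * n⁻¹ * y⁻¹) by group]
      exact mul_mem hn ((inferInstance : A.Normal).conj_mem _ (inv_mem hn) y),
      h2 n (Basics.pCore_le_sylow p P₂ hn) y hy⟩
    rw [hAB, Subgroup.mem_bot] at h3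
    exact commutatorElement_eq_one_iff_mul_comm.mp h3
  have hAQ : ∀ n ∈ A, ∀ y ∈ (Q₁ : Subgroup G), n * y = y * n := by
    obtain ⟨g, hg⟩ := MulAction.exists_smul_eq G Q₂ Q₁
    intro n hn y hy
    rw [← hg, Sylow.coe_subgroup_smul] at hy
    obtain ⟨t, ht, rfl⟩ := hy
    have h3 := hAQ₂ (g⁻¹ * n * g) (by simpa using (inferInstance : A.Normal).conj_mem n hn g⁻¹) t ht
    show n * (g * t * g⁻¹) = g * t * g⁻¹ * n
    calc n * (g * t * g⁻¹) = g * (g⁻¹ * n * g * t) * g⁻¹ := by group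
      _ = g * (t * (g⁻¹ * n * g)) * g⁻¹ := by rw [h3]
      _ = g * t * g⁻¹ * n := by group
  exact ⟨P₁, Q₁, fun x hx y hy => commute_of_mod hpq A (Basics.pCore_isPGroup p) Q₁.2 hAQ hy
    (h1 x hx y hy)⟩

theorem exists_commute [Fact p.Prime] [Fact q.Prime] (hpq : p ≠ q) (hps : Cfsg.IsPSolvable p G)
    (hqs : Cfsg.IsPSolvable q G) (h : Hyp p q G) (h' : Hyp q p G) :
    ∃ (P : Sylow p G) (Q : Sylow q G), ∀ x ∈ (P : Subgroup G), ∀ y ∈ (Q : Subgroup G),
      x * y = y * x :=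
  exists_commute_aux _ G p q hpq rfl hps hqs h h'

theorem hyp_of_commute [Fact p.Prime] [Fact q.Prime] (hpq : p ≠ q) (hps : Cfsg.IsPSolvable p G)
    (P : Sylow p G) (Q : Sylow q G)
    (hc : ∀ x ∈ (P : Subgroup G), ∀ y ∈ (Q : Subgroup G), x * y = y * x) : Hyp p q G := by
  intro χ hχ _
  set O := Cfsg.pPrimeCore p G
  obtain ⟨ψ, hψ, hval⟩ := CT.exists_quotient_irr χ.2 O hχ
  letI := Fintype.ofFinite (G ⧸ O)
  have hQO : (Q : Subgroup G) ≤ O := fun y hy => by
    obtain ⟨k, hk⟩ := Q.2 ⟨y, hy⟩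
    exact mem_pPrimeCore_of_commute hpq hps P (congrArg Subtype.val hk) fun x hx => hc x hx y hy
  intro hq
  have hdeg : CT.deg (χ : G → ℂ) = CT.deg ψ := by
    unfold CT.deg
    rw [← hval 1]; rfl
  rw [hdeg] at hq
  have h1 : q ∣ O.index := hq.trans (Glauberman.deg_dvd_card ⟨ψ, hψ⟩)
  exact Q.not_dvd_index (h1.trans (Subgroup.index_dvd_of_le hQO))

end Cfsg.Agent.Blocks.CommutingSylows
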